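import Mathlib

/-! Fixed points `v = c + t F v` in tuples of power series. -/

set_option autoImplicit false
universe u
open PowerSeries

namespace Groth.Agent.Clifford24.CBasis

variable {R : Type u} [CommRing R] {ι : Type*}

theorem exists_fix (c : ι → PowerSeries R) (F : (ι → PowerSeries R) → (ι → PowerSeries R))
    (hF : ∀ (n : ℕ) (v w : ι → PowerSeries R), (∀ i, X ^ n ∣ v i - w i) → ∀ i, X ^ n ∣ F v i - F w i) :
    ∃ v : ι → PowerSeries R, ∀ i, v i = c i + X * F v i := by
  let G : (ι → PowerSeries R) → (ι → PowerSeries R) := fun v i => c i + X * F v i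
  let it : ℕ → (ι → PowerSeries R) := fun n => G^[n] 0
  have hit : ∀ n, it (n + 1) = G (it n) := fun n => Function.iterate_succ_apply' G n 0
  have hGc : ∀ (n : ℕ) (v w : ι → PowerSeries R), (∀ i, X ^ n ∣ v i - w i) →
      ∀ i, X ^ (n + 1) ∣ G v i - G w i := by
    intro n v w h i
    rw [show G v i - G w i = X * (F v i - F w i) by simp only [G]; ring, pow_succ']
    exact mul_dvd_mul_left _ (hF n v w h i)
  have hstep : ∀ n i, X ^ n ∣ it (n + 1) i - it n i := by
    intro n
    induction n with
    | zero => intro i; simp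
    | succ n ih => intro i; rw [hit (n + 1), hit n]; exact hGc n _ _ (by rwa [hit] at ih) i
  have hle : ∀ n j i, X ^ n ∣ it (n + j) i - it n i := by
    intro n j
    induction j with
    | zero => intro i; simp
    | succ j ih =>
      intro i
      have h := (dvd_trans (pow_dvd_pow X (Nat.le_add_right n j)) (hstep (n + j) i))
      rw [show it (n + (j + 1)) i - it n i =
        (it (n + j + 1) i - it (n + j) i) + (it (n + j) i - it n i) by
          rw [← Nat.add_assoc]; ring]
      exact dvd_add h (ih i)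
  let v : ι → PowerSeries R := fun i => PowerSeries.mk fun n => coeff n (it (n + 1) i)
  have hv : ∀ n i, X ^ n ∣ v i - it n i := by
    intro n i
    rw [X_pow_dvd_iff]
    intro l hl
    obtain ⟨j, hj⟩ := Nat.exists_eq_add_of_le (Nat.succ_le_of_lt hl)
    have h := X_pow_dvd_iff.mp (hle (l + 1) j i) l (Nat.lt_succ_self l)
    rw [map_sub, sub_eq_zero] at h
    rw [map_sub, sub_eq_zero, hj, show l.succ = l + 1 from rfl, h]
    simp [v]
  refine ⟨v, fun i => ?_⟩
  show v i = G v i
  ext n
  have h1 := X_pow_dvd_iff.mp (hv (n + 1) i) n (Nat.lt_succ_self n)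
  have h2 := X_pow_dvd_iff.mp (hGc n v (it n) (hv n) i) n (Nat.lt_succ_self n)
  rw [map_sub, sub_eq_zero] at h1 h2
  rw [h1, h2, hit]

/-- congruence modulo `X ^ n` preserved by anything which factors through the quotient -/
theorem dvd_sub_of_mk {n : ℕ} {a b : PowerSeries R}
    (h : Ideal.Quotient.mk (Ideal.span {(X : PowerSeries R) ^ n}) a =
      Ideal.Quotient.mk (Ideal.span {(X : PowerSeries R) ^ n}) b) : X ^ n ∣ a - b :=
  Ideal.mem_span_singleton.mp ((Ideal.Quotient.mk_eq_mk_iff_sub_mem a b).mp h)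

theorem mk_eq_of_dvd {n : ℕ} {a b : PowerSeries R} (h : X ^ n ∣ a - b) :
    Ideal.Quotient.mk (Ideal.span {(X : PowerSeries R) ^ n}) a =
      Ideal.Quotient.mk (Ideal.span {(X : PowerSeries R) ^ n}) b :=
  (Ideal.Quotient.mk_eq_mk_iff_sub_mem a b).mpr (Ideal.mem_span_singleton.mpr h)

end Groth.Agent.Clifford24.CBasis
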