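import Groth.Prelude.Def_W4c5m1nsnscurvesC
import Mathlib

/-!
Polynomial identities between the relations of the curve algebra and the relations of `U_n`,
for values in an arbitrary commutative ring.
-/

set_option autoImplicit false
universe u
open W4c5m1nsnscurves

namespace Groth.Agent.Clifford24.CBasis

variable {L : Type u} [CommRing L] {m : ℕ} (K : UGen m → L) (x : CVar m → L)

def S (i : Fin m) : L := K .a + K (.ci i) + K (.cbi i)

def r1 (i : Fin m) : L := x .x2 * x (.xi i) -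
  (x .x2 * x .x3 + K (.ci i) * x (.xi i) + K (.cbi i) * x .x2 - K .c)

def r2 (i : Fin m) : L := x .x3 * x (.xi i) -
  (x .x2 * x .x3 + S K i * (x (.xi i) - K (.cbi i)) + K .cb - K .c)

def r3 (i j : Fin m) (h : i ≠ j) : L := x (.xi i) * x (.xi j) -
  (x .x2 * x .x3 + K (.cij i j h) * x (.xi j) + K (.cij j i h.symm) * x (.xi i) - K .c)

def dd (i : Fin m) : L :=
  -(K .a + K (.cbi i)) * K .c - K (.ci i) * K .cb + K (.ci i) * K (.cbi i) * S K i

def fd (d : L) : L := x .x2 * x .x3 ^ 2 - x .x2 ^ 2 * x .x3 -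
  (K .a * (x .x2 * x .x3) + (K .cb - K .c) * x .x2 + K .c * x .x3 + d)

def el (i j : Fin m) (h : i ≠ j) : L := K (.cij i j h) + K (.cij j i h.symm) -
  (K .a + K (.ci i) + K (.cbi i) + K (.ci j) + K (.cbi j))

def ec (i j : Fin m) (h : i ≠ j) : L := K .c -
  (K (.cij j i h.symm) * K (.ci j) + K (.cij i j h) * K (.ci i) - K (.ci i) * K (.ci j))

def eb (i j : Fin m) (h : i ≠ j) : L := K .cb -
  (K (.cij j i h.symm) * K (.cbi i) + K (.cij i j h) * K (.cbi j) - K (.cbi i) * K (.cbi j))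

def et (i j l : Fin m) (h₁ : i ≠ j) (h₂ : j ≠ l) (h₃ : i ≠ l) : L :=
  K (.cij i j h₁) * K (.cij j l h₂) + K (.cij j i h₁.symm) * K (.cij i l h₃) -
    K (.cij i l h₃) * K (.cij j l h₂) + S K l * K (.ci l) - K .c

theorem ident_f (i : Fin m) :
    (x .x2 - K (.ci i)) * r2 K x i - (x .x3 - S K i) * r1 K x i = fd K x (dd K i) := by
  simp only [r1, r2, fd, dd, S]; ring

theorem ident_d (i j : Fin m) (h : i ≠ j) :
    dd K i - dd K j = (K (.cbi j) - K (.cbi i)) * ec K i j h + (K (.ci j) - K (.ci i)) * eb K i j h +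
      (K (.ci j) * (K (.cbi j) - K (.cbi i)) + K (.cbi i) * (K (.ci j) - K (.ci i))) * el K i j h := by
  simp only [dd, ec, eb, el, S]; ring

theorem ident_A (i j : Fin m) (h : i ≠ j) :
    (x .x2 - K (.ci j)) * r3 K x i j h - (x (.xi i) - K (.cij i j h)) * r1 K x j =
      (x .x3 + K (.cbi j) - K (.cij j i h.symm)) * r1 K x i + K (.ci i) * r2 K x i +
        fd K x (dd K i) + el K i j h * (-(x .x2 * x .x3) - K (.ci i) * x (.xi i) + K .c) -
        ec K i j h * x (.xi i) + eb K i j h * x .x2 := by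
  simp only [r1, r2, r3, fd, dd, ec, eb, el, S]; ring

theorem ident_B (i j : Fin m) (h : i ≠ j) :
    (x .x3 - S K j) * r3 K x i j h - (x (.xi i) - K (.cij i j h)) * r2 K x j =
      (x .x2 - K (.cij j i h.symm)) * r2 K x i + S K i * r1 K x i - fd K x (dd K i) -
        el K i j h * (x .x2 * x .x3) +
        (eb K i j h - ec K i j h + (K (.cbi j) - K (.ci i)) * el K i j h) * x (.xi i) +
        ec K i j h * K (.cbi i) +
        eb K i j h * (K (.ci i) - (S K i + S K j - K .a)) +
        el K i j h * (K .c - K .cb + K (.ci i) * K (.cbi i) +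
          (K (.ci i) - (S K i + S K j - K .a)) * K (.cbi j) + S K j * K (.cbi j)) := by
  simp only [r1, r2, r3, fd, dd, ec, eb, el, S]; ring

theorem ident_C (i j l : Fin m) (h₁ : i ≠ j) (h₂ : j ≠ l) (h₃ : i ≠ l) :
    (x (.xi i) - K (.cij i j h₁)) * r3 K x j l h₂ =
      (x (.xi l) - K (.cij l j h₂.symm)) * r3 K x i j h₁ +
        (K (.cij j i h₁.symm) - K (.cij j l h₂)) * r3 K x i l h₃ +
        x .x3 * (r1 K x l - r1 K x i) + K (.ci l) * r2 K x l - K (.ci i) * r2 K x i +
        (el K i j h₁ - el K j l h₂) * (x .x2 * x .x3 - K .c) +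
        et K i j l h₁ h₂ h₃ * x (.xi l) - et K l j i h₂.symm h₁.symm h₃.symm * x (.xi i) +
        (dd K i - dd K l) := by
  simp only [r1, r2, r3, dd, el, et, S]; ring

/-- The relations of `U_n` on the values `K`. -/
structure IsPoint : Prop where
  el : ∀ i j h, el K i j h = 0
  ec : ∀ i j h, ec K i j h = 0
  eb : ∀ i j h, eb K i j h = 0
  et : ∀ i j l h₁ h₂ h₃, et K i j l h₁ h₂ h₃ = 0

variable {K x}

theorem IsPoint.dd_eq (hK : IsPoint K) (i j : Fin m) : dd K i = dd K j := by
  by_cases h : i = j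
  · rw [h]
  · rw [← sub_eq_zero, ident_d K i j h, hK.el, hK.ec, hK.eb]; ring

/-- The relations of the curve on the values `x`. -/
structure IsCurvePt (K : UGen m → L) (x : CVar m → L) : Prop where
  r1 : ∀ i, r1 K x i = 0
  r2 : ∀ i, r2 K x i = 0
  r3 : ∀ i j h, r3 K x i j h = 0

theorem isCurvePt_of_x2 (hK : IsPoint K) (i0 : Fin m) (h1 : ∀ i, r1 K x i = 0)
    (hf : fd K x (dd K i0) = 0) (hu : ∀ i, IsUnit (x .x2 - K (.ci i))) : IsCurvePt K x := by
  have h2 : ∀ i, r2 K x i = 0 := fun i => (hu i).mul_right_eq_zero.mp (by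
    have := ident_f K x i
    rw [h1, hK.dd_eq i i0, hf, mul_zero, sub_zero] at this
    exact this)
  refine ⟨h1, h2, fun i j h => (hu j).mul_right_eq_zero.mp ?_⟩
  have := ident_A K x i j h
  rw [h1, h1, h2, hK.el, hK.ec, hK.eb, hK.dd_eq i i0, hf] at this
  linear_combination this

theorem isCurvePt_of_x3 (hK : IsPoint K) (i0 : Fin m) (h2 : ∀ i, r2 K x i = 0)
    (hf : fd K x (dd K i0) = 0) (hu : ∀ i, IsUnit (x .x3 - S K i)) : IsCurvePt K x := by
  have h1 : ∀ i, r1 K x i = 0 := fun i => (hu i).mul_right_eq_zero.mp (by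
    have := ident_f K x i
    rw [h2, hK.dd_eq i i0, hf, mul_zero] at this
    linear_combination -this)
  refine ⟨h1, h2, fun i j h => (hu j).mul_right_eq_zero.mp ?_⟩
  have := ident_B K x i j h
  rw [h1, h2, h2, hK.el, hK.ec, hK.eb, hK.dd_eq i i0, hf] at this
  linear_combination this

theorem r3_swap (i j : Fin m) (h : i ≠ j) : r3 K x i j h = r3 K x j i h.symm := by
  simp only [r3]; ring

theorem isCurvePt_of_xi (hK : IsPoint K) (i : Fin m) (h1 : r1 K x i = 0) (h2 : r2 K x i = 0)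
    (h3 : ∀ j h, r3 K x i j h = 0) (hu : ∀ j h, IsUnit (x (.xi i) - K (.cij i j h))) :
    IsCurvePt K x := by
  have hf : fd K x (dd K i) = 0 := by rw [← ident_f, h1, h2]; ring
  have H1 : ∀ j, r1 K x j = 0 := by
    intro j
    by_cases h : i = j
    · rwa [← h]
    · refine (hu j h).mul_right_eq_zero.mp ?_
      have := ident_A K x i j h
      rw [h1, h2, h3, hK.el, hK.ec, hK.eb, hf] at this
      linear_combination -this
  have H2 : ∀ j, r2 K x j = 0 := by
    intro j
    by_cases h : i = j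
    · rwa [← h]
    · refine (hu j h).mul_right_eq_zero.mp ?_
      have := ident_B K x i j h
      rw [h1, h2, h3, hK.el, hK.ec, hK.eb, hf] at this
      linear_combination -this
  refine ⟨H1, H2, fun j l h => ?_⟩
  by_cases hj : i = j
  · subst hj; exact h3 l h
  · by_cases hl : i = l
    · subst hl; rw [r3_swap]; exact h3 j h.symm
    · refine (hu j hj).mul_right_eq_zero.mp ?_
      rw [ident_C K x i j l hj h hl, H1, H1, H2, H2, h3, h3, hK.el, hK.el, hK.et, hK.et,
        hK.dd_eq i l]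
      ring

end Groth.Agent.Clifford24.CBasis
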