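import Groth.Agent.Clifford24.CBasis.Ident
import Groth.Agent.Clifford24.CBasis.Fix
import Mathlib

/-! Linear independence of the monomials `cmon` at a point of `U_n`, by expansions at the marked points. -/

set_option autoImplicit false
universe u
open W4c5m1nsnscurves PowerSeries

namespace Groth.Agent.Clifford24.CBasis

variable {R : Type u} [CommRing R] {m : ℕ} (v : UGen m → R)

abbrev LS (R : Type u) [CommRing R] : Type u := LaurentSeries R

noncomputable abbrev ι : PowerSeries R →+* LS R := HahnSeries.ofPowerSeries ℤ R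

noncomputable def τ : LS R := ι (X : PowerSeries R)
noncomputable def τi : LS R := HahnSeries.single (-1 : ℤ) (1 : R)

theorem τ_mul_τi : (τ : LS R) * τi = 1 := by
  rw [τ, τi, ι, HahnSeries.ofPowerSeries_X, HahnSeries.single_mul_single]
  simp

theorem τi_mul_τ : (τi : LS R) * τ = 1 := by rw [mul_comm, τ_mul_τi]

theorem isUnit_τi : IsUnit (τi : LS R) := IsUnit.of_mul_eq_one _ τi_mul_τ

theorem τi_pow_mul (a b : ℕ) : (τi : LS R) ^ a * τ ^ (a + b) = ι (X ^ b) := by
  rw [pow_add, ← mul_assoc, ← mul_pow, τi_mul_τ, one_pow, one_mul, map_pow]; rfl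

/-- values of the constants in Laurent series -/
noncomputable def KL : UGen m → LS R := fun g => ι (PowerSeries.C (v g))

noncomputable def KP : UGen m → PowerSeries R := fun g => PowerSeries.C (v g)

theorem KL_eq (g : UGen m) : KL v g = ι (KP v g) := rfl

theorem isUnit_one_sub_X_mul (p : PowerSeries R) : IsUnit (1 - X * p) :=
  PowerSeries.isUnit_iff_constantCoeff.mpr (by simp)

theorem isUnit_τi_sub (p : PowerSeries R) : IsUnit (τi - ι p) := by
  have : τi - ι p = τi * ι (1 - X * p) := by
    rw [map_sub, map_one, map_mul, mul_sub, mul_one, ← mul_assoc]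
    show _ = τi - τi * τ * ι p
    rw [τi_mul_τ, one_mul]
  rw [this]; exact isUnit_τi.mul ((isUnit_one_sub_X_mul p).map ι)

variable (hK : IsPoint (KL v)) {v}

/-- the map on the curve algebra given by a branch -/
noncomputable def branch (x : CVar m → LS R) (hx : IsCurvePt (KL v) x) : CurveAlg R m v →+* LS R :=
  Ideal.Quotient.lift _ (MvPolynomial.eval₂Hom ((ι : PowerSeries R →+* LS R).comp PowerSeries.C) x) fun _ hp =>
    (Ideal.span_le.mpr fun q hq => RingHom.mem_ker.mpr (by
      simp only [CRel, Set.mem_union, Set.mem_range] at hq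
      rcases hq with (⟨i, rfl⟩ | ⟨i, rfl⟩) | ⟨⟨⟨i, j⟩, h⟩, rfl⟩ <;>
        simp only [map_sub, map_add, map_mul, MvPolynomial.eval₂Hom_X', MvPolynomial.eval₂Hom_C,
          RingHom.comp_apply]
      · exact hx.r1 i
      · exact hx.r2 i
      · exact hx.r3 i j h) :
      Ideal.span (CRel R m v) ≤ RingHom.ker (MvPolynomial.eval₂Hom ((ι : PowerSeries R →+* LS R).comp PowerSeries.C) x)) hp

theorem branch_mk (x : CVar m → LS R) (hx : IsCurvePt (KL v) x) (p : MvPolynomial (CVar m) R) :
    branch x hx (Ideal.Quotient.mk _ p) =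
      MvPolynomial.eval₂Hom ((ι : PowerSeries R →+* LS R).comp PowerSeries.C) x p := rfl

theorem branch_smul (x : CVar m → LS R) (hx : IsCurvePt (KL v) x) (r : R) (z : CurveAlg R m v) :
    branch x hx (r • z) = ι (PowerSeries.C r) * branch x hx z := by
  obtain ⟨p, rfl⟩ := Ideal.Quotient.mk_surjective z
  rw [← Ideal.Quotient.mkₐ_eq_mk R, ← map_smul, Ideal.Quotient.mkₐ_eq_mk, branch_mk, branch_mk,
    MvPolynomial.smul_eq_C_mul, map_mul, MvPolynomial.eval₂Hom_C, RingHom.comp_apply]

abbrev Idx (m : ℕ) : Type := Option (ℕ ⊕ (CVar m × ℕ))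

/-- the power of a monomial -/
def lev : Idx m → ℕ
  | none => 0
  | some (Sum.inl k) => k
  | some (Sum.inr (_, k)) => k

open scoped Classical in
theorem extract (x : CVar m → LS R) (hx : IsCurvePt (KL v) x) (l : Idx m →₀ R)
    (hl : Finsupp.linearCombination R (cmon R m v) l = 0) (e : ℕ) (tgt : Idx m)
    (h : ∀ t ∈ l.support, ∃ s : PowerSeries R, branch x hx (cmon R m v t) * τ ^ e = ι s ∧
      constantCoeff s = if t = tgt then 1 else 0) : l tgt = 0 := by
  choose! s hs hs0 using h
  have h1 : ι (∑ t ∈ l.support, PowerSeries.C (l t) * s t) = 0 := by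
    have h0 := congrArg (fun z => branch x hx z * τ ^ e) hl
    simp only [Finsupp.linearCombination_apply, Finsupp.sum, map_sum, map_zero, zero_mul, branch_smul,
      Finset.sum_mul, mul_assoc] at h0
    rw [map_sum, ← h0]
    exact Finset.sum_congr rfl fun t ht => by rw [map_mul, hs t ht]
  have h2 := congrArg constantCoeff ((map_eq_zero_iff _ HahnSeries.ofPowerSeries_injective).mp h1)
  rw [map_sum, map_zero] at h2
  by_contra hne
  rw [Finset.sum_eq_single tgt (fun t ht htn => by rw [map_mul, hs0 t ht, if_neg htn, mul_zero])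
    (fun h => absurd (Finsupp.mem_support_iff.mpr hne) h), map_mul, PowerSeries.constantCoeff_C,
    hs0 tgt (Finsupp.mem_support_iff.mpr hne), if_pos rfl, mul_one] at h2
  exact hne h2

theorem branch_none (x : CVar m → LS R) (hx : IsCurvePt (KL v) x) :
    branch x hx (cmon R m v none) = 1 := map_one _

theorem branch_P (x : CVar m → LS R) (hx : IsCurvePt (KL v) x) (k : ℕ) :
    branch x hx (cmon R m v (some (Sum.inl k))) = x .x2 ^ (k + 1) * x .x3 := by
  show branch x hx (Ideal.Quotient.mk _ _) = _
  rw [branch_mk, map_mul, map_pow, MvPolynomial.eval₂Hom_X', MvPolynomial.eval₂Hom_X']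

theorem branch_pow (x : CVar m → LS R) (hx : IsCurvePt (KL v) x) (y : CVar m) (k : ℕ) :
    branch x hx (cmon R m v (some (Sum.inr (y, k)))) = x y ^ (k + 1) := by
  show branch x hx (Ideal.Quotient.mk _ _) = _
  rw [branch_mk, map_pow, MvPolynomial.eval₂Hom_X']

theorem reg_pow (a : PowerSeries R) (e k : ℕ) (he : 0 < e) :
    ∃ s : PowerSeries R, ι a ^ k * τ ^ e = ι s ∧ constantCoeff s = 0 :=
  ⟨a ^ k * X ^ e, by rw [map_mul, map_pow, map_pow]; rfl, by simp [zero_pow he.ne']⟩

theorem pole_pow (a : PowerSeries R) (e k : ℕ) (hk : k ≤ e) :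
    (τi * ι a) ^ k * τ ^ e = ι (a ^ k * X ^ (e - k)) := by
  obtain ⟨b, rfl⟩ := Nat.exists_eq_add_of_le hk
  rw [Nat.add_sub_cancel_left, map_mul, mul_pow, mul_comm (τi ^ k), mul_assoc, τi_pow_mul, map_pow, map_pow]

theorem e1 : (τi : LS R) * ι (X : PowerSeries R) = 1 := τi_mul_τ

include hK in
theorem exists_x2_branch (i0 : Fin m) :
    ∃ (x : CVar m → LS R) (_ : IsCurvePt (KL v) x) (c : PowerSeries R) (b : Fin m → PowerSeries R),
      x .x2 = τi ∧ x .x3 = ι (X * c) ∧ ∀ i, x (.xi i) = ι (b i) := by
  let K := KP v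
  let d := dd K i0
  obtain ⟨g, hg⟩ := exists_fix (fun _ : Unit => (0 : PowerSeries R))
    (fun g _ => g () ^ 2 - K .a * g () - (K .cb - K .c) - K .c * X * g () - d * X)
    (fun n a b h _ => dvd_sub_of_mk (by simp only [map_sub, map_mul, map_pow, mk_eq_of_dvd (h ())]))
  generalize hβdef : g () = β
  have hβ : β = X * (β ^ 2 - K .a * β - (K .cb - K .c) - K .c * X * β - d * X) := by
    have := hg ()
    simp only [hβdef, zero_add] at this
    exact this
  have hu : ∀ i, IsUnit (1 - X * K (.ci i)) := fun i => isUnit_one_sub_X_mul _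
  let b : Fin m → PowerSeries R := fun i => (β + K (.cbi i) - K .c * X) * (((hu i).unit⁻¹ : (PowerSeries R)ˣ) : PowerSeries R)
  let x : CVar m → LS R := fun y => match y with
    | .x2 => τi
    | .x3 => ι β
    | .xi i => ι (b i)
  have hd : dd (KL v) i0 = ι d := by
    simp only [d, dd, S, KL_eq, K, map_sub, map_add, map_mul, map_neg]
  refine ⟨x, isCurvePt_of_x2 hK i0 (fun i => ?_) ?_ (fun i => isUnit_τi_sub _),
    _, b, rfl, congrArg ι hβ, fun i => rfl⟩
  · have hb : b i * (1 - X * K (.ci i)) = β + K (.cbi i) - K .c * X := by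
      simp only [b, mul_assoc]
      rw [IsUnit.val_inv_mul, mul_one]
    have h := congrArg ι hb
    simp only [map_sub, map_add, map_mul, map_one] at h
    simp only [r1, x, KL_eq]
    linear_combination (τi : LS R) * h + (ι (K (.ci i)) * ι (b i) - ι (K .c)) * e1 (R := R)
  · have h := congrArg ι hβ
    simp only [map_sub, map_mul, map_pow] at h
    rw [hd]
    simp only [fd, x, KL_eq]
    linear_combination -((τi : LS R) * τi) * h +
      (-(τi * ι β ^ 2 - ι (K .a) * τi * ι β - (ι (K .cb) - ι (K .c)) * τi) +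
        (ι (K .c) * ι β + ι d) * (1 + τi * ι X)) * e1 (R := R)

include hK in
theorem exists_x1_branch (i0 : Fin m) :
    ∃ (x : CVar m → LS R) (_ : IsCurvePt (KL v) x) (c : PowerSeries R) (b : Fin m → PowerSeries R),
      x .x2 = τi ∧ x .x3 = τi * ι c ∧ constantCoeff c = 1 ∧ ∀ i, x (.xi i) = τi * ι (b i) := by
  let K := KP v
  let d := dd K i0
  obtain ⟨g, hg⟩ := exists_fix (fun _ : Unit => K .a)
    (fun g _ => -(g () ^ 2) + K .a * g () + (K .cb - K .c) + K .c * (1 + X * g ()) + d * X)
    (fun n a b h _ => dvd_sub_of_mk (by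
      simp only [map_sub, map_add, map_neg, map_mul, map_pow, map_one, mk_eq_of_dvd (h ())]))
  generalize hεdef : g () = ε
  have hε : ε = K .a + X * (-(ε ^ 2) + K .a * ε + (K .cb - K .c) + K .c * (1 + X * ε) + d * X) := by
    have := hg ()
    simp only [hεdef] at this
    exact this
  have hu : ∀ i, IsUnit (1 - X * K (.ci i)) := fun i => isUnit_one_sub_X_mul _
  let b : Fin m → PowerSeries R := fun i =>
    (1 + X * ε + K (.cbi i) * X - K .c * X ^ 2) * (((hu i).unit⁻¹ : (PowerSeries R)ˣ) : PowerSeries R)
  let x : CVar m → LS R := fun y => match y with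
    | .x2 => τi
    | .x3 => τi * ι (1 + X * ε)
    | .xi i => τi * ι (b i)
  have hd : dd (KL v) i0 = ι d := by
    simp only [d, dd, S, KL_eq, K, map_sub, map_add, map_mul, map_neg]
  refine ⟨x, isCurvePt_of_x2 hK i0 (fun i => ?_) ?_ (fun i => isUnit_τi_sub _),
    _, b, rfl, rfl, by simp, fun i => rfl⟩
  · have hb : b i * (1 - X * K (.ci i)) = 1 + X * ε + K (.cbi i) * X - K .c * X ^ 2 := by
      simp only [b, mul_assoc]
      rw [IsUnit.val_inv_mul, mul_one]
    have h := congrArg ι hb
    simp only [map_sub, map_add, map_mul, map_one, map_pow] at h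
    simp only [r1, x, KL_eq, map_add, map_one, map_mul]
    linear_combination ((τi : LS R) * τi) * h +
      (τi * ι (b i) * ι (K (.ci i)) + τi * ι (K (.cbi i)) - ι (K .c) * (τi * ι X + 1)) * e1 (R := R)
  · have h := congrArg ι hε
    simp only [map_sub, map_add, map_neg, map_mul, map_pow, map_one] at h
    rw [hd]
    simp only [fd, x, KL_eq, map_add, map_one, map_mul]
    linear_combination ((τi : LS R) * τi) * h +
      (τi * τi * ι ε + τi * (τi * ι X) * ι ε ^ 2 + (ι (K .cb) - ι (K .c)) * τi +
        ι (K .c) * τi * (1 + ι X * ι ε) + ι d * (1 + τi * ι X)) * e1 (R := R)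

include hK in
theorem exists_x3_branch (i0 : Fin m) :
    ∃ (x : CVar m → LS R) (_ : IsCurvePt (KL v) x) (c : PowerSeries R) (b : Fin m → PowerSeries R),
      x .x3 = τi ∧ x .x2 = ι (X * c) ∧ ∀ i, x (.xi i) = ι (b i) := by
  let K := KP v
  let d := dd K i0
  obtain ⟨g, hg⟩ := exists_fix (fun _ : Unit => (0 : PowerSeries R))
    (fun g _ => g () ^ 2 + K .a * g () + K .c + (K .cb - K .c) * X * g () + d * X)
    (fun n a b h _ => dvd_sub_of_mk (by simp only [map_sub, map_add, map_mul, map_pow, mk_eq_of_dvd (h ())]))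
  generalize hαdef : g () = α
  have hα : α = X * (α ^ 2 + K .a * α + K .c + (K .cb - K .c) * X * α + d * X) := by
    have := hg ()
    simp only [hαdef, zero_add] at this
    exact this
  have hu : ∀ i, IsUnit (1 - X * S K i) := fun i => isUnit_one_sub_X_mul _
  let b : Fin m → PowerSeries R := fun i =>
    (α + X * (-(S K i) * K (.cbi i) + K .cb - K .c)) * (((hu i).unit⁻¹ : (PowerSeries R)ˣ) : PowerSeries R)
  let x : CVar m → LS R := fun y => match y with
    | .x2 => ι α
    | .x3 => τi
    | .xi i => ι (b i)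
  have hd : dd (KL v) i0 = ι d := by
    simp only [d, dd, S, KL_eq, K, map_sub, map_add, map_mul, map_neg]
  have hS : ∀ i, S (KL v) i = ι (S K i) := fun i => by simp only [S, KL_eq, K, map_add]
  refine ⟨x, isCurvePt_of_x3 hK i0 (fun i => ?_) ?_ (fun i => by rw [hS]; exact isUnit_τi_sub _),
    _, b, rfl, congrArg ι hα, fun i => rfl⟩
  · have hb : b i * (1 - X * S K i) = α + X * (-(S K i) * K (.cbi i) + K .cb - K .c) := by
      simp only [b, mul_assoc]
      rw [IsUnit.val_inv_mul, mul_one]
    have h := congrArg ι hb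
    simp only [map_sub, map_add, map_neg, map_mul, map_one] at h
    simp only [r2, x, hS, KL_eq]
    linear_combination (τi : LS R) * h +
      (ι (S K i) * ι (b i) - ι (S K i) * ι (K (.cbi i)) + ι (K .cb) - ι (K .c)) * e1 (R := R)
  · have h := congrArg ι hα
    simp only [map_sub, map_add, map_mul, map_pow] at h
    rw [hd]
    simp only [fd, x, KL_eq]
    linear_combination ((τi : LS R) * τi) * h +
      (τi * (ι α ^ 2 + ι (K .a) * ι α + ι (K .c)) +
        (τi * ι X + 1) * ((ι (K .cb) - ι (K .c)) * ι α + ι d)) * e1 (R := R)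

include hK in
theorem exists_xi_branch (i : Fin m) :
    ∃ (x : CVar m → LS R) (_ : IsCurvePt (KL v) x) (c : PowerSeries R) (c' : PowerSeries R)
      (b : Fin m → PowerSeries R),
      x (.xi i) = τi ∧ x .x2 = ι c ∧ x .x3 = ι c' ∧ ∀ j, j ≠ i → x (.xi j) = ι (b j) := by
  classical
  let K := KP v
  obtain ⟨g, hg⟩ := exists_fix (fun t : Bool => bif t then K (.ci i) else S K i)
    (fun g t => bif t then g true * g false + K (.cbi i) * g true - K .c
      else g true * g false - S K i * K (.cbi i) + K .cb - K .c)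
    (fun n a b h t => dvd_sub_of_mk (by
      cases t <;> simp only [cond_true, cond_false, map_sub, map_add, map_mul,
        mk_eq_of_dvd (h true), mk_eq_of_dvd (h false)]))
  generalize hαdef : g true = α
  generalize hβdef : g false = β
  have hα : α = K (.ci i) + X * (α * β + K (.cbi i) * α - K .c) := by
    have := hg true
    simp only [cond_true, hαdef, hβdef] at this
    exact this
  have hβ : β = S K i + X * (α * β - S K i * K (.cbi i) + K .cb - K .c) := by
    have := hg false
    simp only [cond_false, hαdef, hβdef] at this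
    exact this
  let b : Fin m → PowerSeries R := fun j => if h : i = j then 0 else
    (K (.cij j i (Ne.symm h)) + X * (α * β - K .c)) *
      (((isUnit_one_sub_X_mul (K (.cij i j h))).unit⁻¹ : (PowerSeries R)ˣ) : PowerSeries R)
  let x : CVar m → LS R := fun y => match y with
    | .x2 => ι α
    | .x3 => ι β
    | .xi j => if i = j then τi else ι (b j)
  have hS : S (KL v) i = ι (S K i) := by simp only [S, KL_eq, K, map_add]
  have hxi : x (.xi i) = τi := if_pos rfl
  refine ⟨x, isCurvePt_of_xi hK i ?_ ?_ (fun j h => ?_) (fun j h => by rw [hxi]; exact isUnit_τi_sub _),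
    α, β, b, hxi, rfl, rfl, fun j hj => if_neg (Ne.symm hj)⟩
  · have h := congrArg ι hα
    simp only [map_sub, map_add, map_mul] at h
    simp only [r1, hxi, KL_eq]
    simp only [x]
    linear_combination (τi : LS R) * h + (ι α * ι β + ι (K (.cbi i)) * ι α - ι (K .c)) * e1 (R := R)
  · have h := congrArg ι hβ
    simp only [map_sub, map_add, map_mul] at h
    simp only [r2, hxi, hS, KL_eq]
    simp only [x]
    linear_combination (τi : LS R) * h +
      (ι α * ι β - ι (S K i) * ι (K (.cbi i)) + ι (K .cb) - ι (K .c)) * e1 (R := R)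
  · have hb : b j * (1 - X * K (.cij i j h)) = K (.cij j i h.symm) + X * (α * β - K .c) := by
      simp only [b, dif_neg h, mul_assoc]
      rw [IsUnit.val_inv_mul, mul_one]
    have hh := congrArg ι hb
    simp only [map_sub, map_add, map_mul, map_one] at hh
    simp only [r3, hxi, KL_eq]
    simp only [x, if_neg h]
    linear_combination (τi : LS R) * hh +
      (ι (K (.cij i j h)) * ι (b j) + ι α * ι β - ι (K .c)) * e1 (R := R)

include hK in
theorem linearIndependent_cmon_of_isPoint (hm : 1 ≤ m) : LinearIndependent R (cmon R m v) := by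
  classical
  rw [linearIndependent_iff]
  intro l hl
  let i0 : Fin m := ⟨0, hm⟩
  obtain ⟨xa, hxa, ca, ba, ha2, ha3, hai⟩ := exists_x2_branch hK i0
  obtain ⟨xb, hxb, cb, bb, hb2, hb3, hbc, hbi⟩ := exists_x1_branch hK i0
  obtain ⟨xc, hxc, cc, bc, hc3, hc2, hci⟩ := exists_x3_branch hK i0
  -- the coefficients of top level vanish
  have key : ∀ N, (∀ t ∈ l.support, lev t ≤ N) →
      (∀ y, l (some (Sum.inr (y, N))) = 0) ∧ l (some (Sum.inl N)) = 0 := by
    intro N hN
    have hxi : ∀ i, l (some (Sum.inr (CVar.xi i, N))) = 0 := by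
      intro i
      obtain ⟨x, hx, a, a', b, hi, h2, h3, hj⟩ := exists_xi_branch hK i
      refine extract x hx l hl (N + 1) _ fun t ht => ?_
      rcases t with _ | (k | ⟨y, k⟩)
      · rw [branch_none, if_neg (by simp)]
        exact ⟨X ^ (N + 1), by rw [one_mul, map_pow]; rfl, by simp⟩
      · rw [branch_P, h2, h3, ← map_pow, ← map_mul, if_neg (by simp)]
        obtain ⟨s, h, h'⟩ := reg_pow (a ^ (k + 1) * a') (N + 1) 1 (Nat.succ_pos _)
        rw [pow_one] at h
        exact ⟨s, h, h'⟩
      · rw [branch_pow]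
        have hk : k ≤ N := hN _ ht
        have hreg : ∀ a : PowerSeries R, (∃ s, (ι a) ^ (k + 1) * τ ^ (N + 1) = ι s ∧ constantCoeff s = 0) :=
          fun a => reg_pow a _ _ (Nat.succ_pos _)
        match y with
        | .x2 => rw [h2, if_neg (by simp)]; exact hreg a
        | .x3 => rw [h3, if_neg (by simp)]; exact hreg a'
        | .xi j =>
          by_cases hji : j = i
          · subst hji
            refine ⟨X ^ (N - k), ?_, ?_⟩
            · rw [hi, show N + 1 = (k + 1) + (N - k) by omega, τi_pow_mul]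
            · by_cases hkN : k = N
              · subst hkN; simp
              · rw [if_neg (by simp [hkN]), map_pow, constantCoeff_X, zero_pow (by omega)]
          · rw [hj j hji, if_neg (by simp [hji])]; exact hreg (b j)
    have hx3 : l (some (Sum.inr (CVar.x3, N))) = 0 := by
      refine extract xc hxc l hl (N + 1) _ fun t ht => ?_
      rcases t with _ | (k | ⟨y, k⟩)
      · rw [branch_none, if_neg (by simp)]
        exact ⟨X ^ (N + 1), by rw [one_mul, map_pow]; rfl, by simp⟩
      · rw [branch_P, hc2, hc3, if_neg (by simp)]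
        refine ⟨(X * cc) ^ (k + 1) * X ^ N, ?_, by simp⟩
        rw [map_mul ι ((X * cc) ^ (k + 1)), map_pow ι (X * cc), mul_assoc, show N + 1 = 1 + N by omega]
        congr 1
        have := τi_pow_mul (R := R) 1 N
        rwa [pow_one] at this
      · rw [branch_pow]
        have hk : k ≤ N := hN _ ht
        match y with
        | .x2 => rw [hc2, if_neg (by simp)]; exact reg_pow _ _ _ (Nat.succ_pos _)
        | .xi j => rw [hci, if_neg (by simp)]; exact reg_pow _ _ _ (Nat.succ_pos _)
        | .x3 =>
          refine ⟨X ^ (N - k), ?_, ?_⟩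
          · rw [hc3, show N + 1 = (k + 1) + (N - k) by omega, τi_pow_mul]
          · by_cases hkN : k = N
            · subst hkN; simp
            · rw [if_neg (by simp [hkN]), map_pow, constantCoeff_X, zero_pow (by omega)]
    have hx2 : l (some (Sum.inr (CVar.x2, N))) = 0 := by
      refine extract xa hxa l hl (N + 1) _ fun t ht => ?_
      rcases t with _ | (k | ⟨y, k⟩)
      · rw [branch_none, if_neg (by simp)]
        exact ⟨X ^ (N + 1), by rw [one_mul, map_pow]; rfl, by simp⟩
      · have hk : k ≤ N := hN _ ht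
        rw [branch_P, ha2, ha3, if_neg (by simp)]
        refine ⟨X * ca * X ^ (N - k), ?_, by simp⟩
        rw [map_mul ι (X * ca), mul_comm (τi ^ (k + 1)), mul_assoc,
          show N + 1 = (k + 1) + (N - k) by omega, τi_pow_mul]
      · rw [branch_pow]
        have hk : k ≤ N := hN _ ht
        match y with
        | .x3 => rw [ha3, if_neg (by simp)]; exact reg_pow _ _ _ (Nat.succ_pos _)
        | .xi j => rw [hai, if_neg (by simp)]; exact reg_pow _ _ _ (Nat.succ_pos _)
        | .x2 =>
          refine ⟨X ^ (N - k), ?_, ?_⟩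
          · rw [ha2, show N + 1 = (k + 1) + (N - k) by omega, τi_pow_mul]
          · by_cases hkN : k = N
            · subst hkN; simp
            · rw [if_neg (by simp [hkN]), map_pow, constantCoeff_X, zero_pow (by omega)]
    refine ⟨fun y => ?_, ?_⟩
    · cases y with
      | x2 => exact hx2
      | x3 => exact hx3
      | xi i => exact hxi i
    refine extract xb hxb l hl (N + 2) _ fun t ht => ?_
    rcases t with _ | (k | ⟨y, k⟩)
    · rw [branch_none, if_neg (by simp)]
      exact ⟨X ^ (N + 2), by rw [one_mul, map_pow]; rfl, by simp⟩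
    · have hk : k ≤ N := hN _ ht
      refine ⟨cb * X ^ (N - k), ?_, ?_⟩
      · rw [branch_P, hb2, hb3, map_mul ι cb, show τi ^ (k + 1) * (τi * ι cb) * τ ^ (N + 2) =
          ι cb * (τi ^ (k + 1 + 1) * τ ^ (N + 2)) by ring,
          show N + 2 = (k + 1 + 1) + (N - k) by omega, τi_pow_mul]
      · by_cases hkN : k = N
        · subst hkN; simp [hbc]
        · rw [if_neg (by simp [hkN]), map_mul, map_pow, constantCoeff_X, zero_pow (by omega), mul_zero]
    · rw [branch_pow, if_neg (by simp)]
      have hk : k ≤ N := hN _ ht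
      have hp : ∀ a : PowerSeries R, ∃ s, (τi * ι a) ^ (k + 1) * τ ^ (N + 2) = ι s ∧ constantCoeff s = 0 :=
        fun a => ⟨_, pole_pow a _ _ (by omega), by simp [zero_pow (show N + 1 - k ≠ 0 by omega)]⟩
      match y with
      | .x2 => rw [hb2, ← mul_one τi, ← map_one ι]; exact hp 1
      | .x3 => rw [hb3]; exact hp cb
      | .xi j => rw [hbi]; exact hp (bb j)
  -- downward induction on the level
  have desc : ∀ M, ∃ N, (∀ t ∈ l.support, t ≠ none → lev t + M < N) := fun M =>
    ⟨l.support.sup lev + M + 1, fun t ht _ => by have := Finset.le_sup (f := lev) ht; omega⟩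
  obtain ⟨N, hN⟩ : ∃ N, ∀ t ∈ l.support, t ≠ none → lev t < N := by
    obtain ⟨N, hN⟩ := desc 0; exact ⟨N, fun t ht h => by simpa using hN t ht h⟩
  have hnone : ∀ N, (∀ t ∈ l.support, t ≠ none → lev t < N) → ∀ t, t ≠ none → l t = 0 := by
    intro N
    induction N with
    | zero =>
      intro h t ht
      by_contra hne
      exact Nat.not_lt_zero _ (h t (Finsupp.mem_support_iff.mpr hne) ht)
    | succ N ih =>
      intro h
      refine ih fun t ht hn => ?_
      obtain ⟨h1, h2⟩ := key N fun s hs => by
        by_cases hs0 : s = none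
        · subst hs0; exact Nat.zero_le _
        · exact Nat.lt_succ_iff.mp (h s hs hs0)
      refine lt_of_le_of_ne (Nat.lt_succ_iff.mp (h t ht hn)) fun he => Finsupp.mem_support_iff.mp ht ?_
      rcases t with _ | (k | ⟨y, k⟩)
      · exact absurd rfl hn
      · simp only [lev] at he; subst he; exact h2
      · simp only [lev] at he; subst he; exact h1 y
  ext t
  by_cases ht : t = none
  · subst ht
    refine extract xa hxa l hl 0 _ fun t ht => ?_
    have : t = none := by
      by_contra hn
      exact Finsupp.mem_support_iff.mp ht (hnone N hN t hn)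
    subst this
    exact ⟨1, by rw [branch_none, pow_zero, mul_one, map_one], by simp⟩
  · exact hnone N hN t ht

end Groth.Agent.Clifford24.CBasis
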