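import Groth.Agent.Clifford24.CBasis.Indep
import Mathlib

/-! The monomials `cmon` always span; independence forces the relations of `U_n`. -/

set_option autoImplicit false
universe u
open W4c5m1nsnscurves

namespace Groth.Agent.Clifford24.CBasis

variable {R : Type u} [CommRing R] {m : ℕ} (v : UGen m → R)

noncomputable abbrev xv (y : CVar m) : CurveAlg R m v :=
  Ideal.Quotient.mk (Ideal.span (CRel R m v)) (MvPolynomial.X y)

noncomputable abbrev KA : UGen m → CurveAlg R m v := fun g => algebraMap R (CurveAlg R m v) (v g)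

theorem smul_eq' (r : R) (z : CurveAlg R m v) : r • z = algebraMap R (CurveAlg R m v) r * z :=
  Algebra.smul_def r z

theorem isCurvePt_self : IsCurvePt (KA v) (xv v) := by
  have h0 : ∀ {p}, p ∈ CRel R m v → Ideal.Quotient.mk (Ideal.span (CRel R m v)) p = 0 :=
    fun hp => Ideal.Quotient.eq_zero_iff_mem.mpr (Ideal.subset_span hp)
  have hC : ∀ r, Ideal.Quotient.mk (Ideal.span (CRel R m v)) (MvPolynomial.C r) =
      algebraMap R (CurveAlg R m v) r := fun r => rfl
  refine ⟨fun i => ?_, fun i => ?_, fun i j h => ?_⟩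
  · have := h0 (Or.inl (Or.inl ⟨i, rfl⟩))
    simp only [map_sub, map_add, map_mul, hC] at this
    exact this
  · have := h0 (Or.inl (Or.inr ⟨i, rfl⟩))
    simp only [map_sub, map_add, map_mul, hC] at this
    exact this
  · have := h0 (Or.inr ⟨⟨(i, j), h⟩, rfl⟩)
    simp only [map_sub, map_add, map_mul, hC] at this
    exact this

theorem fd_self (i : Fin m) : fd (KA v) (xv v) (dd (KA v) i) = 0 := by
  rw [← ident_f, (isCurvePt_self v).r1, (isCurvePt_self v).r2]; ring

theorem algebraMap_dd (i : Fin m) : dd (KA v) i = algebraMap R _ (dd v i) := by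
  simp only [KA, dd, S, map_sub, map_add, map_mul, map_neg]

/-- degree of a monomial -/
def deg : Idx m → ℕ
  | none => 0
  | some (Sum.inl k) => k + 2
  | some (Sum.inr (_, k)) => k + 1

noncomputable def Sp (n : ℕ) : Submodule R (CurveAlg R m v) :=
  Submodule.span R (cmon R m v '' {t | deg t ≤ n})

theorem Sp_mono {a b : ℕ} (h : a ≤ b) : Sp v a ≤ Sp v b :=
  Submodule.span_mono (Set.image_mono fun _ ht => le_trans (Set.mem_setOf.mp ht) h)

theorem const_mem (r : R) (n : ℕ) : algebraMap R (CurveAlg R m v) r ∈ Sp v n := by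
  rw [Algebra.algebraMap_eq_smul_one]
  exact Submodule.smul_mem _ _ (Submodule.subset_span ⟨none, by simp [deg], rfl⟩)

theorem const_mul_mem {n : ℕ} (r : R) {z : CurveAlg R m v} (hz : z ∈ Sp v n) :
    algebraMap R (CurveAlg R m v) r * z ∈ Sp v n := by
  rw [← Algebra.smul_def]; exact Submodule.smul_mem _ _ hz

theorem pow_mem' (y : CVar m) (k n : ℕ) (h : k ≤ n) : xv v y ^ k ∈ Sp v n := by
  rcases k with _ | k
  · rw [pow_zero, ← map_one (algebraMap R (CurveAlg R m v))]; exact const_mem v 1 n
  · refine Submodule.subset_span ⟨some (Sum.inr (y, k)), h, ?_⟩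
    simp [cmon, map_pow]

theorem P_mem (k n : ℕ) (h : k + 1 ≤ n) : xv v .x2 ^ k * xv v .x3 ∈ Sp v n := by
  rcases k with _ | k
  · simpa using pow_mem' v .x3 1 n h
  · refine Submodule.subset_span ⟨some (Sum.inl k), h, ?_⟩
    simp [cmon, map_pow, map_mul]

/-- `x₂^k x₃ · x₃` -/
theorem P_mul_x3 (i0 : Fin m) (k : ℕ) :
    xv v .x2 ^ (k + 1) * xv v .x3 * xv v .x3 - xv v .x2 ^ (k + 2) * xv v .x3 ∈ Sp v (k + 2) := by
  have hf := fd_self v i0
  rw [algebraMap_dd] at hf
  simp only [fd] at hf
  have h : xv v .x2 ^ (k + 1) * xv v .x3 * xv v .x3 - xv v .x2 ^ (k + 2) * xv v .x3 =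
      algebraMap R _ (v .a) * (xv v .x2 ^ (k + 1) * xv v .x3) +
      algebraMap R _ (v .cb - v .c) * xv v .x2 ^ (k + 1) +
      algebraMap R _ (v .c) * (xv v .x2 ^ k * xv v .x3) +
      algebraMap R _ (dd v i0) * xv v .x2 ^ k := by
    rw [map_sub]
    simp only [KA] at hf
    linear_combination (xv v .x2 ^ k) * hf
  rw [h]
  exact add_mem (add_mem (add_mem (const_mul_mem v _ (P_mem v _ _ le_rfl))
    (const_mul_mem v _ (pow_mem' v _ _ _ (by omega)))) (const_mul_mem v _ (P_mem v _ _ (by omega))))
    (const_mul_mem v _ (pow_mem' v _ _ _ (by omega)))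

theorem mul_basic (z w : CVar m) (h : z ≠ w) :
    xv v z * xv v w - xv v .x2 * xv v .x3 ∈ Sp v 1 := by
  have H := isCurvePt_self v
  have hy : ∀ y, xv v y ∈ Sp v 1 := fun y => by simpa using pow_mem' v y 1 1 le_rfl
  have h1 : ∀ i, xv v .x2 * xv v (.xi i) - xv v .x2 * xv v .x3 ∈ Sp v 1 := by
    intro i
    have := H.r1 i
    simp only [r1, sub_eq_zero] at this
    rw [this, show ∀ P a b c : CurveAlg R m v, P + a + b - c - P = a + b - c from fun P a b c => by ring]
    exact sub_mem (add_mem (const_mul_mem v _ (hy _)) (const_mul_mem v _ (hy _))) (const_mem v _ _)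
  have h2 : ∀ i, xv v .x3 * xv v (.xi i) - xv v .x2 * xv v .x3 ∈ Sp v 1 := by
    intro i
    have := H.r2 i
    simp only [r2, sub_eq_zero] at this
    rw [this, show ∀ P a b c : CurveAlg R m v, P + a + b - c - P = a + b - c from fun P a b c => by ring]
    refine sub_mem (add_mem ?_ (const_mem v _ _)) (const_mem v _ _)
    simp only [S, KA, ← map_add]
    exact const_mul_mem v _ (sub_mem (hy _) (const_mem v _ _))
  have h3 : ∀ i j, i ≠ j → xv v (.xi i) * xv v (.xi j) - xv v .x2 * xv v .x3 ∈ Sp v 1 := by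
    intro i j hij
    have := H.r3 i j hij
    simp only [r3, sub_eq_zero] at this
    rw [this, show ∀ P a b c : CurveAlg R m v, P + a + b - c - P = a + b - c from fun P a b c => by ring]
    exact sub_mem (add_mem (const_mul_mem v _ (hy _)) (const_mul_mem v _ (hy _))) (const_mem v _ _)
  match z, w with
  | .x2, .x2 => exact absurd rfl h
  | .x2, .x3 => rw [sub_self]; exact zero_mem _
  | .x2, .xi i => exact h1 i
  | .x3, .x2 => rw [mul_comm, sub_self]; exact zero_mem _
  | .x3, .x3 => exact absurd rfl h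
  | .x3, .xi i => exact h2 i
  | .xi i, .x2 => rw [mul_comm]; exact h1 i
  | .xi i, .x3 => rw [mul_comm]; exact h2 i
  | .xi i, .xi j => exact h3 i j fun e => h (congrArg CVar.xi e)

theorem claim (i0 : Fin m) : ∀ n : ℕ,
    (∀ y z : CVar m, y ≠ z → xv v y ^ (n + 1) * xv v z - xv v .x2 ^ (n + 1) * xv v .x3 ∈ Sp v (n + 1)) ∧
    (∀ y : CVar m, ∀ k, k + 1 ≤ n → xv v .x2 ^ (k + 1) * xv v .x3 * xv v y -
      xv v .x2 ^ (k + 2) * xv v .x3 ∈ Sp v (k + 2)) ∧
    (∀ y : CVar m, ∀ z ∈ Sp v n, z * xv v y ∈ Sp v (n + 1)) := by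
  intro n
  induction n with
  | zero =>
    refine ⟨fun y z h => by simpa using mul_basic v y z h, fun y k hk => absurd hk (by omega), ?_⟩
    intro y z hz
    induction hz using Submodule.span_induction with
    | mem s hs =>
      obtain ⟨t, ht, rfl⟩ := hs
      rcases t with _ | (k | ⟨w, k⟩)
      · show (1 : CurveAlg R m v) * _ ∈ _
        rw [one_mul]; simpa using pow_mem' v y 1 1 le_rfl
      · simp [deg] at ht
      · simp [deg] at ht
    | zero => simp
    | add a b _ _ ha hb => rw [add_mul]; exact add_mem ha hb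
    | smul r a _ ha => rw [smul_mul_assoc]; exact Submodule.smul_mem _ _ ha
  | succ n ih =>
    obtain ⟨ihA, ihP, ihS⟩ := ih
    -- products with `x₂^(k+1) x₃`
    have hP : ∀ y : CVar m, ∀ k, k + 1 ≤ n + 1 → xv v .x2 ^ (k + 1) * xv v .x3 * xv v y -
        xv v .x2 ^ (k + 2) * xv v .x3 ∈ Sp v (k + 2) := by
      intro y k hk
      rcases Nat.lt_or_ge k n with hlt | hge
      · exact ihP y k hlt
      obtain rfl : k = n := by omega
      match y with
      | .x2 =>
        rw [show xv v .x2 ^ (k + 1) * xv v .x3 * xv v .x2 - xv v .x2 ^ (k + 2) * xv v .x3 = 0 by ring]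
        exact zero_mem _
      | .x3 => exact P_mul_x3 v i0 k
      | .xi i =>
        have h1 := (isCurvePt_self v).r1 i
        have h2 := (isCurvePt_self v).r2 i
        simp only [r1] at h1
        simp only [r2] at h2
        have h : xv v .x2 ^ (k + 1) * xv v .x3 * xv v (.xi i) - xv v .x2 ^ (k + 2) * xv v .x3 =
            (xv v .x2 ^ (k + 1) * xv v .x3 * xv v .x3 - xv v .x2 ^ (k + 2) * xv v .x3) +
            algebraMap R _ (v (.cbi i)) * (xv v .x2 ^ (k + 1) * xv v .x3) +
            algebraMap R _ (v (.ci i)) * (xv v .x2 ^ (k + 1) * xv v .x3) -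
            algebraMap R _ (v .c) * (xv v .x2 ^ k * xv v .x3) +
            algebraMap R _ (v (.ci i) * (v .a + v (.ci i) + v (.cbi i))) * (xv v .x2 ^ k * xv v (.xi i)) +
            algebraMap R _ (v (.ci i) * (v .cb - v .c - (v .a + v (.ci i) + v (.cbi i)) * v (.cbi i))) *
              xv v .x2 ^ k := by
          simp only [map_sub, map_add, map_mul, S, KA] at *
          linear_combination (xv v .x2 ^ k * xv v .x3) * h1 +
            (algebraMap R (CurveAlg R m v) (v (.ci i)) * xv v .x2 ^ k) * h2
        rw [h]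
        refine add_mem (add_mem (sub_mem (add_mem (add_mem (P_mul_x3 v i0 k)
          (const_mul_mem v _ (P_mem v _ _ le_rfl))) (const_mul_mem v _ (P_mem v _ _ le_rfl)))
          (const_mul_mem v _ (P_mem v _ _ (by omega)))) (const_mul_mem v _ ?_))
          (const_mul_mem v _ (pow_mem' v _ _ _ (by omega)))
        exact Sp_mono v (by omega) (ihS (.xi i) _ (pow_mem' v .x2 k k le_rfl))
    have hS : ∀ y : CVar m, ∀ z ∈ Sp v (n + 1), z * xv v y ∈ Sp v (n + 2) := by
     intro y z hz
     induction hz using Submodule.span_induction with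
     | mem s hs =>
       obtain ⟨t, ht, rfl⟩ := hs
       rcases t with _ | (k | ⟨w, k⟩)
       · show (1 : CurveAlg R m v) * _ ∈ _
         rw [one_mul]; simpa using pow_mem' v y 1 (n + 2) (by omega)
       · have hk : k + 2 ≤ n + 1 := ht
         have h' : cmon R m v (some (Sum.inl k)) * xv v y =
             (xv v .x2 ^ (k + 1) * xv v .x3 * xv v y - xv v .x2 ^ (k + 2) * xv v .x3) +
               xv v .x2 ^ (k + 2) * xv v .x3 := by simp [cmon, map_pow, map_mul]
         rw [h']
         exact add_mem (Sp_mono v (by omega) (hP y k (by omega))) (P_mem v _ _ (by omega))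
       · have hk : k + 1 ≤ n + 1 := ht
         by_cases hwy : w = y
         · subst hwy
           have h' : cmon R m v (some (Sum.inr (w, k))) * xv v w = xv v w ^ (k + 2) := by
             simp [cmon, map_pow, pow_succ]
           rw [h']; exact pow_mem' v _ _ _ (by omega)
         · have h' : cmon R m v (some (Sum.inr (w, k))) * xv v y =
               (xv v w ^ (k + 1) * xv v y - xv v .x2 ^ (k + 1) * xv v .x3) +
                 xv v .x2 ^ (k + 1) * xv v .x3 := by simp [cmon, map_pow]
           rw [h']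
           rcases Nat.lt_or_ge k n with hlt | hge
           · refine add_mem ?_ (P_mem v _ _ (by omega))
             have hmem : cmon R m v (some (Sum.inr (w, k))) ∈ Sp v n :=
               Submodule.subset_span ⟨_, show k + 1 ≤ n by omega, rfl⟩
             have := ihS y _ hmem
             rw [h'] at this
             have := sub_mem (Sp_mono v (show n + 1 ≤ n + 2 by omega) this)
               (P_mem v (k + 1) (n + 2) (by omega))
             simpa using this
           · obtain rfl : k = n := by omega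
             exact add_mem (Sp_mono v (by omega) (ihA w y hwy)) (P_mem v _ _ (by omega))
     | zero => simp
     | add a b _ _ ha hb => rw [add_mul]; exact add_mem ha hb
     | smul r a _ ha => rw [smul_mul_assoc]; exact Submodule.smul_mem _ _ ha
    refine ⟨fun y z h => ?_, hP, hS⟩
    rw [show xv v y ^ (n + 2) * xv v z - xv v .x2 ^ (n + 2) * xv v .x3 =
      (xv v .x2 ^ (n + 1) * xv v .x3 * xv v y - xv v .x2 ^ (n + 2) * xv v .x3) +
      (xv v y ^ (n + 1) * xv v z - xv v .x2 ^ (n + 1) * xv v .x3) * xv v y by ring]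
    exact add_mem (hP y n le_rfl) (hS y _ (ihA y z h))

theorem span_cmon (hm : 1 ≤ m) : Submodule.span R (Set.range (cmon R m v)) = ⊤ := by
  have hle : ∀ n, Sp v n ≤ Submodule.span R (Set.range (cmon R m v)) := fun n =>
    Submodule.span_mono (Set.image_subset_range _ _)
  suffices h : ∀ p, ∃ n, Ideal.Quotient.mk (Ideal.span (CRel R m v)) p ∈ Sp v n by
    refine eq_top_iff.mpr fun z _ => ?_
    obtain ⟨p, rfl⟩ := Ideal.Quotient.mk_surjective z
    obtain ⟨n, hn⟩ := h p
    exact hle n hn
  intro p
  induction p using MvPolynomial.induction_on with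
  | C r => exact ⟨0, const_mem v r 0⟩
  | add p q hp hq =>
    obtain ⟨a, ha⟩ := hp
    obtain ⟨b, hb⟩ := hq
    exact ⟨max a b, by rw [map_add]; exact add_mem (Sp_mono v (le_max_left _ _) ha) (Sp_mono v (le_max_right _ _) hb)⟩
  | mul_X p y hp =>
    obtain ⟨a, ha⟩ := hp
    exact ⟨a + 1, by rw [map_mul]; exact (claim v ⟨0, hm⟩ a).2.2 y _ ha⟩

theorem isPoint_of_linearIndependent (hli : LinearIndependent R (cmon R m v)) : IsPoint v := by
  classical
  rw [linearIndependent_iff] at hli
  have H := isCurvePt_self v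
  have hy : ∀ y, cmon R m v (some (Sum.inr (y, 0))) = xv v y := fun y => by simp [cmon, map_pow]
  have hP : cmon R m v (some (Sum.inl 0)) = xv v .x2 * xv v .x3 := by simp [cmon, map_mul, map_pow]
  have hlin : ∀ i j h, el v i j h = 0 ∧ ec v i j h = 0 ∧ eb v i j h = 0 := by
    intro i j h
    have hid := ident_A (KA v) (xv v) i j h
    rw [H.r1, H.r1, H.r2, H.r3, fd_self] at hid
    have e₁ : el (KA v) i j h = algebraMap R _ (el v i j h) := by simp only [el, KA, map_sub, map_add]
    have e₂ : ec (KA v) i j h = algebraMap R _ (ec v i j h) := by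
      simp only [ec, KA, map_sub, map_add, map_mul]
    have e₃ : eb (KA v) i j h = algebraMap R _ (eb v i j h) := by
      simp only [eb, KA, map_sub, map_add, map_mul]
    rw [e₁, e₂, e₃] at hid
    have h0 := hli (Finsupp.single (some (Sum.inl 0)) (el v i j h) +
      Finsupp.single (some (Sum.inr (CVar.xi i, 0))) (v (.ci i) * el v i j h + ec v i j h) +
      Finsupp.single (some (Sum.inr (CVar.x2, 0))) (-eb v i j h) +
      Finsupp.single none (-(v .c * el v i j h))) (by
        simp only [map_add, Finsupp.linearCombination_single, hy, hP, smul_eq', map_neg, map_mul]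
        show _ + _ + _ + _ * (1 : CurveAlg R m v) = 0
        simp only [KA] at hid
        linear_combination hid)
    have h1 := DFunLike.congr_fun h0 (some (Sum.inl 0))
    have h2 := DFunLike.congr_fun h0 (some (Sum.inr (CVar.xi i, 0)))
    have h3 := DFunLike.congr_fun h0 (some (Sum.inr (CVar.x2, 0)))
    simp [Finsupp.single_apply] at h1 h2 h3
    rw [h1] at h2
    exact ⟨h1, by simpa using h2, h3⟩
  refine ⟨fun i j h => (hlin i j h).1, fun i j h => (hlin i j h).2.1, fun i j h => (hlin i j h).2.2,
    fun i j l h₁ h₂ h₃ => ?_⟩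
  have hid := ident_C (KA v) (xv v) i j l h₁ h₂ h₃
  have e₁ : ∀ a b h, el (KA v) a b h = 0 := fun a b h => by
    have : el (KA v) a b h = algebraMap R _ (el v a b h) := by simp only [el, KA, map_sub, map_add]
    rw [this, (hlin a b h).1, map_zero]
  have e₄ : ∀ a b c x y z, et (KA v) a b c x y z = algebraMap R _ (et v a b c x y z) :=
    fun a b c x y z => by simp only [et, S, KA, map_sub, map_add, map_mul]
  have hd : dd v i = dd v l := by
    rw [← sub_eq_zero, ident_d v i l h₃, (hlin i l h₃).1, (hlin i l h₃).2.1, (hlin i l h₃).2.2]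
    ring
  rw [H.r1, H.r1, H.r2, H.r2, H.r3, H.r3, H.r3, e₁, e₁, e₄, e₄, algebraMap_dd, algebraMap_dd, hd] at hid
  have h0 := hli (Finsupp.single (some (Sum.inr (CVar.xi l, 0))) (et v i j l h₁ h₂ h₃) +
    Finsupp.single (some (Sum.inr (CVar.xi i, 0))) (-et v l j i h₂.symm h₁.symm h₃.symm)) (by
      simp only [map_add, Finsupp.linearCombination_single, hy, smul_eq', map_neg]
      linear_combination -hid)
  have h1 := DFunLike.congr_fun h0 (some (Sum.inr (CVar.xi l, 0)))
  simpa [Finsupp.single_apply, h₃] using h1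

theorem isPoint_iff : IsPoint v ↔ ∀ p ∈ URel R m, MvPolynomial.eval v p = 0 := by
  constructor
  · intro hK p hp
    simp only [URel, Set.mem_union, Set.mem_range] at hp
    rcases hp with ((⟨⟨⟨i, j⟩, h⟩, rfl⟩ | ⟨⟨⟨i, j⟩, h⟩, rfl⟩) | ⟨⟨⟨i, j⟩, h⟩, rfl⟩) | ⟨⟨⟨i, j, l⟩, h₁, h₂, h₃⟩, rfl⟩ <;>
      simp only [map_sub, map_add, map_mul, MvPolynomial.eval_X]
    · exact hK.el i j h
    · have := hK.ec i j h; simp only [ec] at this; linear_combination -this
    · have := hK.eb i j h; simp only [eb] at this; linear_combination -this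
    · exact hK.et i j l h₁ h₂ h₃
  · intro h
    refine ⟨fun i j hij => ?_, fun i j hij => ?_, fun i j hij => ?_, fun i j l h₁ h₂ h₃ => ?_⟩
    · have := h _ (Or.inl (Or.inl (Or.inl ⟨⟨(i, j), hij⟩, rfl⟩)))
      simp only [map_sub, map_add, MvPolynomial.eval_X] at this
      exact this
    · have := h _ (Or.inl (Or.inl (Or.inr ⟨⟨(i, j), hij⟩, rfl⟩)))
      simp only [map_sub, map_add, map_mul, MvPolynomial.eval_X] at this
      simp only [ec]; linear_combination -this
    · have := h _ (Or.inl (Or.inr ⟨⟨(i, j), hij⟩, rfl⟩))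
      simp only [map_sub, map_add, map_mul, MvPolynomial.eval_X] at this
      simp only [eb]; linear_combination -this
    · have := h _ (Or.inr ⟨⟨(i, j, l), h₁, h₂, h₃⟩, rfl⟩)
      simp only [map_sub, map_add, map_mul, MvPolynomial.eval_X] at this
      exact this

theorem isPoint_KL {v : UGen m → R} (hK : IsPoint v) : IsPoint (KL v) := by
  let φ : R →+* LS R := (ι : PowerSeries R →+* LS R).comp PowerSeries.C
  refine ⟨fun i j h => ?_, fun i j h => ?_, fun i j h => ?_, fun i j l h₁ h₂ h₃ => ?_⟩
  · have := congrArg φ (hK.el i j h)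
    simp only [el, map_sub, map_add, map_zero] at this
    exact this
  · have := congrArg φ (hK.ec i j h)
    simp only [ec, map_sub, map_add, map_mul, map_zero] at this
    exact this
  · have := congrArg φ (hK.eb i j h)
    simp only [eb, map_sub, map_add, map_mul, map_zero] at this
    exact this
  · have := congrArg φ (hK.et i j l h₁ h₂ h₃)
    simp only [et, S, map_sub, map_add, map_mul, map_zero] at this
    exact this

theorem basis_iff (hm : 1 ≤ m) :
    (LinearIndependent R (cmon R m v) ∧ Submodule.span R (Set.range (cmon R m v)) = ⊤) ↔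
      (∀ p ∈ URel R m, MvPolynomial.eval v p = 0) := by
  rw [← isPoint_iff]
  exact ⟨fun h => isPoint_of_linearIndependent v h.1,
    fun h => ⟨linearIndependent_cmon_of_isPoint (isPoint_KL h) hm, span_cmon v hm⟩⟩

end Groth.Agent.Clifford24.CBasis
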